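import Mathlib
import Groth.Prelude.Def_W4c5quivmodgenus0Quiv

/-!
Comparison of the two quivers of point configurations.
-/

namespace PtQuivLib

open PtQuiv

variable {K : Type*} [Field K] {κ : Type*} [Fintype κ] [DecidableEq κ]

theorem indep_of_semistable {a b : κ} (hab : a ≠ b) {s : κ → (Fin 2 → K)} {θ : κ → ℚ}
    (hθ : 1 < θ a + θ b) (h : QSemistable (-1) θ s) : LinearIndependent K ![s a, s b] := by
  by_contra hdep
  obtain ⟨v, hva, hvb⟩ : ∃ v, s a ∈ K ∙ v ∧ s b ∈ K ∙ v := by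
    by_cases ha : s a = 0
    · exact ⟨s b, ha ▸ zero_mem _, Submodule.mem_span_singleton_self _⟩
    · rw [LinearIndependent.pair_iff' ha] at hdep
      push Not at hdep
      obtain ⟨c, hc⟩ := hdep
      exact ⟨s a, Submodule.mem_span_singleton_self _, Submodule.mem_span_singleton.mpr ⟨c, hc⟩⟩
  have hw := h.2 (K ∙ v) {a, b} (fun i hi => by
    rcases Finset.mem_insert.mp hi with rfl | hi
    · exact hva
    · rw [Finset.mem_singleton.mp hi]; exact hvb)
  have hle : ((Module.finrank K ↥(K ∙ v) : ℕ) : ℚ) ≤ 1 := by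
    rcases eq_or_ne v 0 with rfl | hv
    · rw [show (K ∙ (0 : Fin 2 → K)) = ⊥ from Submodule.span_singleton_eq_bot.mpr rfl, finrank_bot]; norm_num
    · rw [finrank_span_singleton hv]; norm_num
  rw [QWt, Finset.sum_pair hab] at hw
  linarith

theorem exists_coords {a b : κ} {s : κ → (Fin 2 → K)} (hli : LinearIndependent K ![s a, s b])
    (ι : Type*) (f : ι → κ) :
    ∃ t : ι → (Fin 2 → K), ∀ i, s (f i) = t i 0 • s a + t i 1 • s b := by
  have hspan : Submodule.span K (Set.range ![s a, s b]) = ⊤ :=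
    hli.span_eq_top_of_card_eq_finrank (by simp)
  have : ∀ v, ∃ c : Fin 2 → K, v = c 0 • s a + c 1 • s b := fun v => by
    obtain ⟨c, hc⟩ := (Submodule.mem_span_range_iff_exists_fun K).mp
      (show v ∈ Submodule.span K (Set.range ![s a, s b]) from hspan ▸ trivial)
    exact ⟨c, by rw [← hc, Fin.sum_univ_two]; rfl⟩
  choose t ht using fun i => this (s (f i))
  exact ⟨t, ht⟩

/-- The index type of the other points. -/
abbrev Rest (a b : κ) : Type _ := {i : κ // i ≠ a ∧ i ≠ b}

theorem sum_rest {a b : κ} (hab : a ≠ b) {θ : κ → ℚ} (h2 : ∑ i, θ i = 2) :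
    ∑ i : Rest a b, θ i.1 = 2 - θ a - θ b := by
  have h := Finset.sum_sdiff (Finset.subset_univ ({a, b} : Finset κ)) (f := θ)
  rw [Finset.sum_pair hab, h2] at h
  have e : ∑ i : Rest a b, θ i.1 = ∑ x ∈ Finset.univ \ {a, b}, θ x :=
    (Finset.sum_subtype _ (fun x => by simp) _).symm
  linarith

/-- The weight at the two sinks. -/
def eta (a b : κ) (θ : κ → ℚ) : Fin 2 → ℚ :=
  ![(2 - θ a - θ b)⁻¹ * (θ a - 1), (2 - θ a - θ b)⁻¹ * (θ b - 1)]

theorem back {a b : κ} (hab : a ≠ b) {s : κ → (Fin 2 → K)}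
    (hli : LinearIndependent K ![s a, s b]) (θ : κ → ℚ)
    (t : Rest a b → (Fin 2 → K)) (ht : ∀ i, s i.1 = t i 0 • s a + t i 1 • s b)
    (U : Fin 2 → Submodule K K) (I : Finset (Rest a b)) (hU : PSubrep t U I) :
    ∃ (L : Submodule K (Fin 2 → K)) (J : Finset κ), QSubrep s L J ∧
      PWt K (eta a b θ) (fun i : Rest a b => (2 - θ a - θ b)⁻¹ * θ i.1) U I =
        (2 - θ a - θ b)⁻¹ * QWt K (-1) θ L J ∧
      ((L = ⊥ ∧ J = ∅) ∨ (L = ⊤ ∧ J = Finset.univ) → (U = ⊥ ∧ I = ∅) ∨ (U = ⊤ ∧ I = Finset.univ)) := by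
  set I' : Finset κ := I.map (Function.Embedding.subtype _) with hI'
  have hmem : ∀ x ∈ I', x ≠ a ∧ x ≠ b := fun x hx => by
    obtain ⟨i, -, rfl⟩ := Finset.mem_map.mp hx
    exact i.2
  have hsum : ∑ i ∈ I, (2 - θ a - θ b)⁻¹ * θ i.1 = (2 - θ a - θ b)⁻¹ * ∑ x ∈ I', θ x := by
    rw [hI', Finset.sum_map, Finset.mul_sum]; rfl
  have hnea : a ∉ I' := fun h => (hmem a h).1 rfl
  have hneb : b ∉ I' := fun h => (hmem b h).2 rfl
  have hsa : s a ≠ 0 := by simpa using! hli.ne_zero 0
  have hsb : s b ≠ 0 := by simpa using! hli.ne_zero 1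
  have h0 : ∀ (j : Fin 2), U j = ⊥ → ∀ i ∈ I, t i j = 0 := fun j hj i hi => by
    have := hU i hi j
    rwa [hj, Submodule.mem_bot] at this
  have hbt : ∀ j, U j = (⊥ : Submodule K K) ∨ U j = (⊤ : Submodule K K) := fun j =>
    eq_bot_or_eq_top (U j : Ideal K)
  have hf0 : ∀ j, U j = (⊥ : Submodule K K) → Module.finrank K (U j) = 0 := fun j hj => by
    rw [hj]; exact finrank_bot K K
  have hf1 : ∀ j, U j = (⊤ : Submodule K K) → Module.finrank K (U j) = 1 := fun j hj => by
    rw [hj, finrank_top, Module.finrank_self]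
  rcases hbt 0 with u0 | u0 <;> rcases hbt 1 with u1 | u1
  · refine ⟨⊥, I', ?_, ?_, ?_⟩
    · intro x hx
      obtain ⟨i, hi, rfl⟩ := Finset.mem_map.mp hx
      rw [Function.Embedding.subtype_apply, ht i, h0 0 u0 i hi, h0 1 u1 i hi]
      simp
    · simp [PWt, QWt, Fin.sum_univ_two, hf0 0 u0, hf0 1 u1, hsum]
    · rintro (⟨-, h⟩ | ⟨h, -⟩)
      · left
        refine ⟨funext fun j => ?_, Finset.map_eq_empty.mp h⟩
        fin_cases j <;> assumption
      · exact absurd h bot_ne_top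
  · refine ⟨K ∙ s b, insert b I', ?_, ?_, ?_⟩
    · intro x hx
      rcases Finset.mem_insert.mp hx with rfl | hx
      · exact Submodule.mem_span_singleton_self _
      obtain ⟨i, hi, rfl⟩ := Finset.mem_map.mp hx
      rw [Function.Embedding.subtype_apply, ht i, h0 0 u0 i hi, zero_smul, zero_add]
      exact Submodule.smul_mem _ _ (Submodule.mem_span_singleton_self _)
    · simp [PWt, QWt, eta, Fin.sum_univ_two, hf0 0 u0, hf1 1 u1, hsum, Finset.sum_insert hneb,
        finrank_span_singleton hsb]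
      ring
    · rintro (⟨h, -⟩ | ⟨h, -⟩)
      · exact absurd (Submodule.span_singleton_eq_bot.mp h) hsb
      · have := congrArg (fun S : Submodule K (Fin 2 → K) => Module.finrank K S) h
        simp [finrank_span_singleton hsb] at this
  · refine ⟨K ∙ s a, insert a I', ?_, ?_, ?_⟩
    · intro x hx
      rcases Finset.mem_insert.mp hx with rfl | hx
      · exact Submodule.mem_span_singleton_self _
      obtain ⟨i, hi, rfl⟩ := Finset.mem_map.mp hx
      rw [Function.Embedding.subtype_apply, ht i, h0 1 u1 i hi, zero_smul, add_zero]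
      exact Submodule.smul_mem _ _ (Submodule.mem_span_singleton_self _)
    · simp [PWt, QWt, eta, Fin.sum_univ_two, hf1 0 u0, hf0 1 u1, hsum, Finset.sum_insert hnea,
        finrank_span_singleton hsa]
      ring
    · rintro (⟨h, -⟩ | ⟨h, -⟩)
      · exact absurd (Submodule.span_singleton_eq_bot.mp h) hsa
      · have := congrArg (fun S : Submodule K (Fin 2 → K) => Module.finrank K S) h
        simp [finrank_span_singleton hsa] at this
  · refine ⟨⊤, insert a (insert b I'), fun x _ => trivial, ?_, ?_⟩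
    · have hna : a ∉ insert b I' := by simp [hab, hnea]
      simp [PWt, QWt, eta, Fin.sum_univ_two, hf1 0 u0, hf1 1 u1, hsum, Finset.sum_insert hna,
        Finset.sum_insert hneb]
      ring
    · rintro (⟨h, -⟩ | ⟨-, h⟩)
      · exact absurd h top_ne_bot
      · right
        refine ⟨funext fun j => ?_, Finset.eq_univ_of_forall fun i => ?_⟩
        · fin_cases j <;> assumption
        · have := Finset.eq_univ_iff_forall.mp h i.1
          simpa [hI', i.2.1, i.2.2] using! this

theorem forth {a b : κ} (hab : a ≠ b) {s : κ → (Fin 2 → K)}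
    (hli : LinearIndependent K ![s a, s b]) {θ : κ → ℚ} (h0 : ∀ i, 0 ≤ θ i)
    (h1 : ∀ i, θ i ≤ 1) (h2 : ∑ i, θ i = 2) (hθ : 1 < θ a + θ b) (hθ' : θ a + θ b < 2)
    (t : Rest a b → (Fin 2 → K)) (ht : ∀ i, s i.1 = t i 0 • s a + t i 1 • s b)
    (L : Submodule K (Fin 2 → K)) (J : Finset κ) (hL : QSubrep s L J) :
    QWt K (-1) θ L J < 0 ∨ (L = ⊤ ∧ QWt K (-1) θ L J ≤ 0 ∧
        (QWt K (-1) θ L J = 0 → ∀ i ∉ J, θ i = 0)) ∨
      ∃ (U : Fin 2 → Submodule K K) (I : Finset (Rest a b)), PSubrep t U I ∧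
        (2 - θ a - θ b)⁻¹ * QWt K (-1) θ L J ≤
          PWt K (eta a b θ) (fun i : Rest a b => (2 - θ a - θ b)⁻¹ * θ i.1) U I ∧
        ((U = ⊥ ∧ I = ∅) ∨ (U = ⊤ ∧ I = Finset.univ) → L = ⊥ ∧ J = ∅) := by
  set c := (2 - θ a - θ b)⁻¹ with hc_def
  have hc : 0 < c := inv_pos.mpr (by linarith)
  have hsa : s a ≠ 0 := by simpa using! hli.ne_zero 0
  have hsb : s b ≠ 0 := by simpa using! hli.ne_zero 1
  by_cases hboth : s a ∈ L ∧ s b ∈ L
  · right; left
    have hspan : Submodule.span K (Set.range ![s a, s b]) = ⊤ :=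
      hli.span_eq_top_of_card_eq_finrank (by simp)
    have hL' : L = ⊤ := eq_top_iff.mpr (hspan ▸ Submodule.span_le.mpr (by
      rintro _ ⟨j, rfl⟩; fin_cases j
      · exact hboth.1
      · exact hboth.2))
    have hJ : ∑ i ∈ J, θ i + ∑ i ∈ Finset.univ \ J, θ i = 2 := by
      rw [add_comm, Finset.sum_sdiff (Finset.subset_univ J), h2]
    have hnn : 0 ≤ ∑ i ∈ Finset.univ \ J, θ i := Finset.sum_nonneg fun i _ => h0 i
    subst hL'
    have hw : QWt K (-1) θ (⊤ : Submodule K (Fin 2 → K)) J = -2 + ∑ i ∈ J, θ i := by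
      simp [QWt]
    refine ⟨rfl, by rw [hw]; linarith, fun h => fun i hi => ?_⟩
    rw [hw] at h
    exact (Finset.sum_eq_zero_iff_of_nonneg (fun i _ => h0 i)).mp (by linarith) i (by simpa using hi)
  have hne : L ≠ ⊤ := fun h => hboth ⟨h ▸ trivial, h ▸ trivial⟩
  have hdim : Module.finrank K L ≤ 1 := by
    have h := Submodule.finrank_lt hne
    rw [Module.finrank_fin_fun] at h
    omega
  set J' : Finset (Rest a b) := J.subtype _ with hJ'
  have hJsum : ∑ i ∈ J, θ i ≤ ∑ i ∈ J', θ i.1 + (if a ∈ J then θ a else 0) + (if b ∈ J then θ b else 0) := by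
    have : ∑ i ∈ J', θ i.1 = ∑ i ∈ J.filter (fun i => i ≠ a ∧ i ≠ b), θ i := by
      rw [hJ', ← Finset.subtype_map (s := J) fun i => i ≠ a ∧ i ≠ b, Finset.sum_map]; rfl
    rw [this, Finset.sum_filter, ← Finset.sum_ite_eq J a θ, ← Finset.sum_ite_eq J b θ,
      ← Finset.sum_add_distrib, ← Finset.sum_add_distrib]
    refine Finset.sum_le_sum fun i _ => le_of_eq ?_
    by_cases hia : i = a
    · subst hia; simp [hab, hab.symm]
    by_cases hib : i = b
    · subst hib; simp [hab, hab.symm]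
    simp [hia, hib, Ne.symm hia, Ne.symm hib]
  have hrest : ∑ i ∈ J', θ i.1 ≤ 2 - θ a - θ b := (Finset.sum_le_sum_of_subset_of_nonneg
    (Finset.subset_univ _) fun i _ _ => h0 i.1).trans_eq (sum_rest hab h2)
  have coef : ∀ (i : Rest a b), i ∈ J' → s i.1 ∈ L := fun i hi =>
    hL i.1 (Finset.mem_subtype.mp hi)
  rcases Nat.eq_zero_or_pos (Module.finrank K L) with hd | hd
  · have hLbot : L = ⊥ := Submodule.finrank_eq_zero.mp hd
    subst hLbot
    have ha : a ∉ J := fun h => hsa ((Submodule.mem_bot K).mp (hL a h))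
    have hb : b ∉ J := fun h => hsb ((Submodule.mem_bot K).mp (hL b h))
    refine Or.inr (Or.inr ⟨⊥, J', ?_, ?_, ?_⟩)
    · intro i hi j
      have h := (Submodule.mem_bot K).mp (coef i hi)
      rw [ht i] at h
      obtain ⟨e0, e1⟩ := LinearIndependent.pair_iff.mp hli _ _ h
      fin_cases j
      · simp [e0]
      · simp [e1]
    · rw [if_neg ha, if_neg hb] at hJsum
      simp only [PWt, QWt, finrank_bot, Pi.bot_apply, Nat.cast_zero, mul_zero, zero_add,
        Finset.sum_const_zero, ← Finset.mul_sum]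
      exact mul_le_mul_of_nonneg_left (by linarith) hc.le
    · rintro (⟨-, h⟩ | ⟨h, -⟩)
      · refine ⟨rfl, Finset.eq_empty_of_forall_notMem fun x hx => ?_⟩
        have hm : (⟨x, ne_of_mem_of_not_mem hx ha, ne_of_mem_of_not_mem hx hb⟩ : Rest a b) ∈ J' :=
          Finset.mem_subtype.mpr hx
        rw [h] at hm
        exact Finset.notMem_empty _ hm
      · have := congrFun h 0
        simp at this
  have hd1 : Module.finrank K L = 1 := by omega
  have hwt : QWt K (-1) θ L J = -1 + ∑ i ∈ J, θ i := by simp [QWt, hd1]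
  by_cases haJ : a ∈ J
  · have hb : b ∉ J := fun h => hboth ⟨hL a haJ, hL b h⟩
    have hLa : L = K ∙ s a := (Submodule.eq_of_le_of_finrank_eq
      ((Submodule.span_singleton_le_iff_mem _ _).mpr (hL a haJ))
      (by rw [finrank_span_singleton hsa, hd1])).symm
    refine Or.inr (Or.inr ⟨![⊤, ⊥], J', ?_, ?_, ?_⟩)
    · intro i hi j
      fin_cases j
      · trivial
      · have h := coef i hi
        rw [hLa, ht i] at h
        obtain ⟨m, hm⟩ := Submodule.mem_span_singleton.mp h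
        have h0' : (t i 0 - m) • s a + t i 1 • s b = 0 := by rw [sub_smul, hm]; abel
        simpa using (LinearIndependent.pair_iff.mp hli _ _ h0').2
    · rw [if_pos haJ, if_neg hb] at hJsum
      simp [PWt, hwt, eta, Fin.sum_univ_two, ← Finset.mul_sum, ← hc_def]
      erw [finrank_top, finrank_bot, Module.finrank_self]
      simp only [Nat.cast_one, Nat.cast_zero, mul_one, mul_zero, add_zero, zero_add]
      rw [← mul_add]
      exact mul_le_mul_of_nonneg_left (by linarith) hc.le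
    · rintro (⟨h, -⟩ | ⟨h, -⟩)
      · have := congrFun h 0; simp at this
      · have := congrFun h 1; simp at this
  by_cases hbJ : b ∈ J
  · have hLb : L = K ∙ s b := (Submodule.eq_of_le_of_finrank_eq
      ((Submodule.span_singleton_le_iff_mem _ _).mpr (hL b hbJ))
      (by rw [finrank_span_singleton hsb, hd1])).symm
    refine Or.inr (Or.inr ⟨![⊥, ⊤], J', ?_, ?_, ?_⟩)
    · intro i hi j
      fin_cases j
      · have h := coef i hi
        rw [hLb, ht i] at h
        obtain ⟨m, hm⟩ := Submodule.mem_span_singleton.mp h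
        have h0' : t i 0 • s a + (t i 1 - m) • s b = 0 := by rw [sub_smul, hm]; abel
        simpa using (LinearIndependent.pair_iff.mp hli _ _ h0').1
      · trivial
    · rw [if_neg haJ, if_pos hbJ] at hJsum
      simp [PWt, hwt, eta, Fin.sum_univ_two, ← Finset.mul_sum, ← hc_def]
      erw [finrank_top, finrank_bot, Module.finrank_self]
      simp only [Nat.cast_one, Nat.cast_zero, mul_one, mul_zero, add_zero, zero_add]
      rw [← mul_add]
      exact mul_le_mul_of_nonneg_left (by linarith) hc.le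
    · rintro (⟨h, -⟩ | ⟨h, -⟩)
      · have := congrFun h 1; simp at this
      · have := congrFun h 0; simp at this
  · left
    rw [if_neg haJ, if_neg hbJ] at hJsum
    rw [hwt]
    linarith

theorem semistable_iff (a b : κ) (hab : a ≠ b) (s : κ → (Fin 2 → K)) (θ : κ → ℚ)
    (h0 : ∀ i, 0 ≤ θ i) (h1 : ∀ i, θ i ≤ 1) (h2 : ∑ i, θ i = 2) (hθ : 1 < θ a + θ b)
    (hθ' : θ a + θ b < 2) :
    QSemistable (-1) θ s ↔ LinearIndependent K ![s a, s b] ∧
      ∀ t : Rest a b → (Fin 2 → K), (∀ i, s i.1 = t i 0 • s a + t i 1 • s b) →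
        PSemistable (eta a b θ) (fun i : Rest a b => (2 - θ a - θ b)⁻¹ * θ i.1) t := by
  have hc : 0 < (2 - θ a - θ b)⁻¹ := inv_pos.mpr (by linarith)
  constructor
  · intro h
    refine ⟨indep_of_semistable hab hθ h, fun t ht => ⟨?_, fun U I hU => ?_⟩⟩
    · rw [← Finset.mul_sum, sum_rest hab h2]
      simp [eta, Fin.sum_univ_two]
      ring
    · obtain ⟨L, J, hL, e, -⟩ := back hab (indep_of_semistable hab hθ h) θ t ht U I hU
      rw [e]
      exact mul_nonpos_of_nonneg_of_nonpos hc.le (h.2 L J hL)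
  · rintro ⟨hli, h⟩
    refine ⟨by linarith, fun L J hL => ?_⟩
    obtain ⟨t, ht⟩ := exists_coords hli (Rest a b) (fun i => i.1)
    rcases forth hab hli h0 h1 h2 hθ hθ' t ht L J hL with hlt | ⟨-, hle, -⟩ | ⟨U, I, hU, hle, -⟩
    · exact hlt.le
    · exact hle
    · exact nonpos_of_mul_nonpos_right (hle.trans ((h t ht).2 U I hU)) hc

theorem stable_iff (a b : κ) (hab : a ≠ b) (s : κ → (Fin 2 → K)) (θ : κ → ℚ)
    (h0 : ∀ i, 0 ≤ θ i) (h1 : ∀ i, θ i ≤ 1) (h2 : ∑ i, θ i = 2) (hθ : 1 < θ a + θ b)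
    (hθ' : θ a + θ b < 2) :
    QStable (-1) θ s ↔ LinearIndependent K ![s a, s b] ∧
      ∀ t : Rest a b → (Fin 2 → K), (∀ i, s i.1 = t i 0 • s a + t i 1 • s b) →
        PStable (eta a b θ) (fun i : Rest a b => (2 - θ a - θ b)⁻¹ * θ i.1) t := by
  have hc : 0 < (2 - θ a - θ b)⁻¹ := inv_pos.mpr (by linarith)
  constructor
  · intro h
    obtain ⟨hli, hP⟩ := (semistable_iff a b hab s θ h0 h1 h2 hθ hθ').mp h.1
    refine ⟨hli, fun t ht => ⟨hP t ht, fun U I hU h0' => ?_⟩⟩
    obtain ⟨L, J, hL, e, htriv⟩ := back hab hli θ t ht U I hU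
    exact htriv (h.2 L J hL (by
      rw [e] at h0'
      exact (mul_eq_zero.mp h0').resolve_left hc.ne'))
  · rintro ⟨hli, h⟩
    have hss := (semistable_iff a b hab s θ h0 h1 h2 hθ hθ').mpr ⟨hli, fun t ht => (h t ht).1⟩
    refine ⟨hss, fun L J hL hw => ?_⟩
    obtain ⟨t, ht⟩ := exists_coords hli (Rest a b) (fun i => i.1)
    rcases forth hab hli h0 h1 h2 hθ hθ' t ht L J hL with hlt | ⟨hLt, -, hz⟩ | ⟨U, I, hU, hle, htriv⟩
    · linarith
    · refine Or.inr ⟨hLt, Finset.eq_univ_of_forall fun i => ?_⟩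
      by_contra hi
      have hzi := hz hw i hi
      have hia : i ≠ a := fun he => by
        subst he
        linarith [h1 b]
      have hib : i ≠ b := fun he => by
        subst he
        linarith [h1 a]
      obtain ⟨⟨hsum, -⟩, hst⟩ := h t ht
      have := hst ⊤ (Finset.univ.erase ⟨i, hia, hib⟩) (fun _ _ _ => trivial) (by
        rw [PWt, Finset.sum_erase _ (by simp [hzi])]
        simpa using hsum)
      rcases this with ⟨h', -⟩ | ⟨-, h'⟩
      · exact absurd (congrFun h' 0) top_ne_bot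
      · have := Finset.eq_univ_iff_forall.mp h' ⟨i, hia, hib⟩
        simp at this
    · rw [hw, mul_zero] at hle
      obtain ⟨hs, hst⟩ := h t ht
      exact Or.inl (htriv (hst U I hU (le_antisymm (hs.2 U I hU) hle)))

end PtQuivLib
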